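import Cfsg.Agent.Lib.KnownA.JankoTwoSchur.Data
import Cfsg.Agent.Lib.InvChar.SporJ2

/-!
The kernel checks of `SchurCert` for the presented `J₂` acting on 100 points.
-/

set_option autoImplicit false
set_option maxRecDepth 100000

namespace CfsgLib.KnownA.JankoTwoSchur

open CfsgLib.KnownA.SchurCert (Cert Ops Ev)
open CfsgLib.InvChar

/-- The image of a point under a packed permutation. -/
def pimg (c i : ℕ) : ℕ := Nat.shiftRight c (7 * i) % 128

/-- The image of a point under a word in packed permutations. -/
def runC (codes w : List ℕ) (i : ℕ) : ℕ :=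
  w.foldl (fun j k => bif Nat.blt k codes.length then pimg (codes.getD k 0) j else j) i

/-- Two words act alike on the 100 points. -/
def eqc (codes w w' : List ℕ) : Bool :=
  (List.range 100).all fun i => Nat.beq (runC codes w i) (runC codes w' i)

/-- The packed permutations are those of the words. -/
noncomputable def chkCodes (codes : List ℕ) (words : List (List ℕ)) : Bool :=
  Nat.beq codes.length words.length &&
  ((List.range codes.length).all fun k =>
    (words.getD k []).all (fun x => Nat.blt x 5) &&
      (List.range 100).all fun i =>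
        Nat.beq (Coset.J2A.table.follow (words.getD k []) i) (pimg (codes.getD k 0) i))

/-- All the checks. -/
def allOK {V : Type} (o : Ops V) (C : Cert V) (extras : List ℕ) (codes : List ℕ) : Bool :=
  C.presOK (eqc codes) && C.edgesOK o && C.injOK (eqc codes) && C.consOK (eqc codes) &&
    C.finalOK o extras

/-- The element of a word, an unlisted one giving a word outside the range. -/
noncomputable def gen (words : List (List ℕ)) (k : ℕ) : SporJ2.P :=
  CfsgLib.InvChar.Coset.wprod CfsgLib.InvChar.SporJ2.gen (words.getD k [])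

open CfsgLib.InvChar

theorem follow_rep (L : List ℕ) (hL : ∀ x ∈ L, x < 5) (i : Fin Coset.J2A.table.n) :
    Coset.J2A.table.follow L i =
      ((SporJ2.rep (Coset.wprod SporJ2.gen L))⁻¹ i : Fin Coset.J2A.table.n) := by
  rw [Coset.map_wprod SporJ2.rep SporJ2.gen SporJ2.perm L fun x hx => SporJ2.rep_gen x (hL x hx)]
  exact Coset.J2A.valid.follow_eq Coset.J2A.sq L hL i

theorem pimg_gen {codes : List ℕ} {words : List (List ℕ)} (h : chkCodes codes words = true) {k : ℕ}
    (hk : k < codes.length) (i : Fin Coset.J2A.table.n) :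
    pimg (codes.getD k 0) i = ((SporJ2.rep (gen words k))⁻¹ i : Fin Coset.J2A.table.n) := by
  simp only [chkCodes, Bool.and_eq_true, List.all_eq_true, List.mem_range] at h
  obtain ⟨h1, h2⟩ := h.2 k hk
  rw [gen, ← follow_rep _ (fun x hx => by simpa [Nat.blt] using h1 x hx) i,
    Nat.eq_of_beq_eq_true (h2 i i.2)]

theorem gen_unlisted {codes : List ℕ} {words : List (List ℕ)} (h : chkCodes codes words = true)
    {k : ℕ} (hk : ¬ k < codes.length) : gen words k = 1 := by
  simp only [chkCodes, Bool.and_eq_true] at h
  rw [Nat.eq_of_beq_eq_true h.1, Nat.not_lt] at hk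
  rw [gen, List.getD_eq_default _ _ hk]
  rfl

theorem runC_eq {codes : List ℕ} {words : List (List ℕ)} (h : chkCodes codes words = true) :
    ∀ (w : List ℕ) (i : Fin Coset.J2A.table.n),
      runC codes w i =
        ((SporJ2.rep (SchurCert.wprod (gen words) w))⁻¹ i : Fin Coset.J2A.table.n) := by
  intro w
  induction w with
  | nil => intro i; simp [runC, SchurCert.wprod]
  | cons k w ih =>
    intro i
    show runC codes w (bif Nat.blt k codes.length then pimg (codes.getD k 0) i else i) = _
    have hstep : (bif Nat.blt k codes.length then pimg (codes.getD k 0) i else (i : ℕ)) =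
        ((SporJ2.rep (gen words k))⁻¹ i : Fin Coset.J2A.table.n) := by
      cases hb : Nat.blt k codes.length
      · rw [gen_unlisted h fun hlt => by simp [Nat.blt, Nat.ble_eq_true_of_le (Nat.succ_le_of_lt hlt)] at hb, map_one,
          inv_one]
        rfl
      · exact pimg_gen h (by simpa [Nat.blt] using hb) i
    rw [hstep, ih]
    show _ = (((SporJ2.rep (gen words k * SchurCert.wprod (gen words) w))⁻¹ i :
      Fin Coset.J2A.table.n) : ℕ)
    rw [map_mul, mul_inv_rev, Equiv.Perm.mul_apply]

/-- The word comparison is exact. -/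
theorem eqc_iff {codes : List ℕ} {words : List (List ℕ)} (h : chkCodes codes words = true)
    (w w' : List ℕ) :
    eqc codes w w' = true ↔ SchurCert.wprod (gen words) w = SchurCert.wprod (gen words) w' := by
  constructor
  · intro he
    simp only [eqc, List.all_eq_true, List.mem_range] at he
    refine SporJ2.card_eq.2 (inv_injective (Equiv.ext fun i => Fin.ext ?_))
    rw [← runC_eq h w, ← runC_eq h w', Nat.eq_of_beq_eq_true (he i i.2)]
  · intro e
    simp only [eqc, List.all_eq_true, List.mem_range]
    intro i hi
    rw [runC_eq h w ⟨i, hi⟩, runC_eq h w' ⟨i, hi⟩, e]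
    exact Nat.beq_refl _

universe u

/-- A checked certificate bounds the kernels of exponent `p`. -/
theorem ker_le {V : Type} (o : Ops V) (C : Cert V) (extras codes : List ℕ) (words : List (List ℕ))
    (hev : ∀ {K : Type} [CommGroup K] (τ : ℕ → K), (∀ x : K, x ^ C.p = 1) →
      Nonempty (Ev o C.rels.length τ))
    (hcard : Nat.Coprime C.p (604800 / C.N)) (hcodes : chkCodes codes words = true)
    (h : allOK o C extras codes = true)
    {Γ : Type} [Group Γ] [Finite Γ] {σ : Γ →* SporJ2.P} (hσ : Cfsg.IsStemExtension σ)
    (hexp : ∀ x ∈ σ.ker, x ^ C.p = 1) :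
    ∃ τ : ℕ → Γ, ((∀ r, τ r ∈ σ.ker) ∧ ∀ r q comb, C.boundOK o r q comb = true → τ r ^ q = 1) ∧
      σ.ker ≤ Subgroup.closure (τ '' {r | r ∈ extras}) := by
  simp only [allOK, Bool.and_eq_true] at h
  obtain ⟨⟨⟨⟨h1, h2⟩, h3⟩, h4⟩, h5⟩ := h
  exact SchurCert.ker_le_of_cert (eqc codes) (gen words) (fun w w' e => (eqc_iff hcodes w w').1 e)
    (fun w w' e e' => by rw [(eqc_iff hcodes w w').2 e'] at e; exact Bool.noConfusion e) o C extras hev
    (by rw [SporJ2.card_eq.1]; exact hcard) h1 h2 h3 h4 h5 hσ hexp

end CfsgLib.KnownA.JankoTwoSchur
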