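import Cfsg.Agent.Lib.KnownA.JankoTwoSchur.Check

/-! The certificates are valid. -/

set_option autoImplicit false
set_option maxRecDepth 100000

namespace CfsgLib.KnownA.JankoTwoSchur

open CfsgLib.KnownA.SchurCert (bitOps modOps laneOps)

theorem chk2 : chkCodes codes2 words2 = true := by decide +kernel
theorem chk3 : chkCodes codes3 words3 = true := by decide +kernel
theorem chk5 : chkCodes codes5 words5 = true := by decide +kernel
theorem chk7 : chkCodes codes7 words7 = true := by decide +kernel
theorem chk4 : chkCodes codes4 words4 = true := by decide +kernel

theorem ok2 : allOK bitOps cert2 [13] codes2 = true := by decide +kernel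
theorem ok3 : allOK (modOps 3 6) cert3 [] codes3 = true := by decide +kernel
theorem ok5 : allOK (modOps 5 3) cert5 [] codes5 = true := by decide +kernel
theorem ok7 : allOK (modOps 7 1) cert7 [] codes7 = true := by decide +kernel
theorem ok4 : allOK (laneOps 28) cert4 [0, 1, 4, 13] codes4 = true := by decide +kernel

theorem bound4_ok : (bound4.all fun e => cert4.boundOK (laneOps 28) e.1 2 e.2) = true := by
  decide +kernel

end CfsgLib.KnownA.JankoTwoSchur
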