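import Cfsg.Agent.Lib.KnownA.JankoTwoSchur.Checks
import Cfsg.Agent.Lib.InvChar.IcoJ2
import Cfsg.Agent.Lib.Coprime.SchurAbelian

/-!
`2·J₂` is a stem extension of `J₂`, and the Schur multiplier of `J₂` has order 2.
-/

set_option autoImplicit false
set_option maxRecDepth 100000

namespace CfsgLib.KnownA.JankoTwoSchur

open CfsgLib.InvChar CfsgLib.InvChar.Ico CfsgLib.KnownA.SchurCert
open Cfsg.Spor (icoLeech twoJ2 J2)

/-- The unit by which a generator moves a representative. -/
noncomputable def unitAt (i x : ℕ) : D := unit (Coset.field Ico.Data.unitIdxTr 128 20 (i * 5 + x))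

theorem gen_image {i x : ℕ} (hi : i < 315) (hx : x < 5) :
    table.app i x < 315 ∧ ∃ hu : IsU (unitAt i x),
      refl (genLine x) (repL i) = smulL hu.1 (repL (table.app i x)) := by
  have key : chkEntry i x = true := by
    rcases Nat.lt_or_ge i 80 with h | h
    · have := List.all_eq_true.1 (List.all_eq_true.1 chk_tab0 i (List.mem_range.2 h)) x (List.mem_range.2 hx)
      simpa using this
    rcases Nat.lt_or_ge i 160 with h | h
    · have := List.all_eq_true.1 (List.all_eq_true.1 chk_tab1 (i - 80) (List.mem_range.2 (by omega))) x (List.mem_range.2 hx)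
      rwa [show 80 + (i - 80) = i by omega] at this
    rcases Nat.lt_or_ge i 240 with h | h
    · have := List.all_eq_true.1 (List.all_eq_true.1 chk_tab2 (i - 160) (List.mem_range.2 (by omega))) x (List.mem_range.2 hx)
      rwa [show 160 + (i - 160) = i by omega] at this
    · have := List.all_eq_true.1 (List.all_eq_true.1 chk_tab3 (i - 240) (List.mem_range.2 (by omega))) x (List.mem_range.2 hx)
      rwa [show 240 + (i - 240) = i by omega] at this
  simp only [chkEntry, Coset.force_eq, forceV_eq, forceD_eq, Bool.and_eq_true, decide_eq_true_eq, reflVF_eq] at key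
  obtain ⟨⟨hj, hk⟩, e⟩ := key
  have hj : table.app i x < 315 := by simpa [Nat.blt] using hj
  have hk : Coset.field Ico.Data.unitIdxTr 128 20 (i * 5 + x) < 120 := by simpa [Nat.blt] using hk
  refine ⟨hj, isU_unit hk, Subtype.ext ?_⟩
  rw [refl_apply (genLine_lt hx), repL_val hi,
    ← psi_reflV (rep_spec (genLine_lt hx)).1 (rep_spec hi).1, e,
    psi_smulV (isU_unit hk).1 (inL_iff.1 (rep_spec hj).1).1]
  simp [smulL, repL_val hj, unitAt]

/-- Following a word on the first representative, with the scalar. -/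
noncomputable def trace (w : List ℕ) : ℕ × D :=
  w.foldr (fun x p => Coset.force p.1 fun i => forceD p.2 fun u =>
    (table.app i x, mul u (unitAt i x))) (0, one)

theorem trace_spec : ∀ w : List ℕ, (∀ x ∈ w, x < 5) → (trace w).1 < 315 ∧
    ∃ hU : IsU (trace w).2, ((Coset.wprod tgen w : twoJ2) : Equiv.Perm icoLeech) (repL 0) =
      smulL hU.1 (repL (trace w).1) := by
  intro w
  induction w with
  | nil => exact fun _ => ⟨by decide, isU_one, (smulL_one mem_one _).symm⟩
  | cons x w ih =>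
    intro hw
    obtain ⟨hx, hw⟩ := List.forall_mem_cons.1 hw
    obtain ⟨hi, hU, e⟩ := ih hw
    obtain ⟨hj, hu, e'⟩ := gen_image hi hx
    have heq : trace (x :: w) =
        (table.app (trace w).1 x, mul (trace w).2 (unitAt (trace w).1 x)) := by
      simp [trace, Coset.force_eq, forceD_eq]
    rw [heq]
    refine ⟨hj, hU.mul hu, ?_⟩
    show (((tgen x * Coset.wprod tgen w : twoJ2)) : Equiv.Perm icoLeech) (repL 0) = _
    have hg := good_of_mem (tgen x).2
    have ht : ((tgen x : twoJ2) : Equiv.Perm icoLeech) = refl (genLine x) := by simp [tgen, hx]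
    rw [Subgroup.coe_mul, Equiv.Perm.mul_apply, e, hg.smul, ht, e', smulL_smulL]

/-- A word for an element squaring to the negation. -/
def wNeg : List ℕ := [0, 1, 2, 3, 1, 4, 2, 1]

theorem check_wNeg : decide (((trace (wNeg ++ wNeg)).1 = 0) ∧ (trace (wNeg ++ wNeg)).2 ≠ one) &&
    ((List.range 100).all fun i => Nat.beq (Coset.J2A.table.follow (wNeg ++ wNeg) i) i) = true := by
  decide +kernel

theorem sq_eq_negOne : Coset.wprod tgen wNeg * Coset.wprod tgen wNeg = negOne := by
  have h := check_wNeg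
  simp only [Bool.and_eq_true, decide_eq_true_eq, List.all_eq_true, List.mem_range] at h
  obtain ⟨⟨h0, hne⟩, hall⟩ := h
  have hlt : ∀ x ∈ wNeg ++ wNeg, x < 5 := by decide
  rw [← Coset.wprod_append]
  have hker : toP (Coset.wprod tgen (wNeg ++ wNeg)) = 1 := by
    rw [Coset.map_wprod toP tgen SporJ2.gen _ fun x hx => toP_tgen (hlt x hx)]
    refine SporJ2.card_eq.2 (inv_injective (Equiv.ext fun i => Fin.ext ?_))
    rw [← follow_rep _ hlt i, Nat.eq_of_beq_eq_true (hall i i.2), map_one, inv_one]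
    rfl
  rcases (toP_ker _).1 hker with h1 | h1
  · exfalso
    obtain ⟨-, hU, e⟩ := trace_spec _ hlt
    rw [h1, Subgroup.coe_one, Equiv.Perm.one_apply] at e
    have e0 : smulL isU_one.1 (repL 0) = smulL hU.1 (repL (trace (wNeg ++ wNeg)).1) := by
      rw [smulL_one, ← e]
    exact hne (smulL_inj (by norm_num) (by rw [h0]; norm_num) isU_one hU e0).2.symm
  · exact h1

theorem commutator_twoJ2 : commutator twoJ2 = ⊤ := by
  have hmap : (commutator twoJ2).map toP = ⊤ := by
    rw [commutator_def, Subgroup.map_commutator, Subgroup.map_top_of_surjective _ toP_surjective,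
      ← commutator_def]
    haveI := SporJ2.isSimpleGroup
    refine ((Subgroup.commutator_normal ⊤ ⊤).eq_bot_or_eq_top).resolve_left fun h => ?_
    obtain ⟨a, b, hab⟩ := SporJ2.exists_noncomm
    refine hab (commutatorElement_eq_one_iff_mul_comm.1 ((Subgroup.mem_bot).1 ?_))
    rw [← h]
    exact Subgroup.commutator_mem_commutator (Subgroup.mem_top a) (Subgroup.mem_top b)
  have hneg : negOne ∈ commutator twoJ2 := by
    obtain ⟨g, hgdef⟩ : ∃ g, Coset.wprod tgen wNeg = g := ⟨_, rfl⟩
    obtain ⟨y, hy, hyg⟩ := hmap.symm ▸ Subgroup.mem_top (toP g)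
    obtain ⟨z, rfl⟩ : ∃ z, g = y * z := ⟨y⁻¹ * g, (mul_inv_cancel_left y g).symm⟩
    have hz : toP z = 1 := by rwa [map_mul, left_eq_mul] at hyg
    have hzc : ∀ a, a * z = z * a := by
      rcases (toP_ker z).1 hz with rfl | rfl
      · simp
      · exact Subgroup.mem_center_iff.1 negOne_central
    have hzz : z * z = 1 := by
      rcases (toP_ker z).1 hz with rfl | rfl
      · exact one_mul 1
      · refine Subtype.ext (Equiv.ext fun x => Subtype.ext ?_)
        rw [Subgroup.coe_mul, Equiv.Perm.mul_apply, negOne_apply, negOne_apply, neg_neg]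
        rfl
    rw [← sq_eq_negOne, hgdef, show y * z * (y * z) = y * y * (z * z) by
      rw [mul_assoc, ← mul_assoc z y, ← hzc y, mul_assoc y z z, ← mul_assoc], hzz, mul_one]
    exact mul_mem hy hy
  refine (Subgroup.eq_top_iff' _).2 fun x => ?_
  obtain ⟨y, hy, hyx⟩ := hmap.symm ▸ Subgroup.mem_top (toP x)
  have h : toP (x * y⁻¹) = 1 := by rw [map_mul, map_inv, hyx, mul_inv_cancel]
  have : x * y⁻¹ ∈ commutator twoJ2 := by
    rcases (toP_ker _).1 h with h | h <;> rw [h]
    · exact one_mem _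
    · exact hneg
  simpa using mul_mem this hy

theorem stem_toP : Cfsg.IsStemExtension toP :=
  ⟨toP_surjective, center_twoJ2.ge, by rw [commutator_twoJ2]; exact le_top⟩

theorem card_ker_toP : Nat.card toP.ker = 2 := by rw [← center_twoJ2]; exact card_center

/-- Only `2` divides the kernel of a stem extension, and it does so at most once. -/
theorem bound (Γ : Type) [Group Γ] [Finite Γ] (σ : Γ →* SporJ2.P)
    (hσ : Cfsg.IsStemExtension σ) : IsCyclic σ.ker ∧ Nat.card σ.ker ∣ 2 := by
  have hc := SporJ2.card_eq.1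
  have hodd : ∀ p : ℕ, p.Prime → p ≠ 2 → ¬ p ∣ Nat.card σ.ker := by
    intro p hp hp2
    have : Fact p.Prime := ⟨hp⟩
    intro hdvd
    obtain ⟨z, hz⟩ := exists_prime_orderOf_dvd_card' p hdvd
    have hpG : p ∣ 604800 := by
      rw [← hc, ← hz, ← Subgroup.orderOf_coe, orderOf_dvd_iff_pow_eq_one]
      exact ker_pow_card hσ (z : Γ) z.2
    have hcases : p = 3 ∨ p = 5 ∨ p = 7 := by
      have h : (604800 : ℕ) = 2 ^ 7 * 3 ^ 3 * 5 ^ 2 * 7 := by norm_num
      rw [h] at hpG
      rcases (Nat.Prime.dvd_mul hp).1 hpG with h | h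
      · rcases (Nat.Prime.dvd_mul hp).1 h with h | h
        · rcases (Nat.Prime.dvd_mul hp).1 h with h | h
          · exact absurd ((Nat.prime_dvd_prime_iff_eq hp Nat.prime_two).1 (hp.dvd_of_dvd_pow h)) hp2
          · exact Or.inl ((Nat.prime_dvd_prime_iff_eq hp Nat.prime_three).1 (hp.dvd_of_dvd_pow h))
        · exact Or.inr (Or.inl ((Nat.prime_dvd_prime_iff_eq hp (by norm_num)).1 (hp.dvd_of_dvd_pow h)))
      · exact Or.inr (Or.inr ((Nat.prime_dvd_prime_iff_eq hp (by norm_num)).1 h))
    refine prime_not_dvd_ker p (fun Δ _ _ τ hτ he => ?_) hσ hdvd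
    have key : ∀ {τ' : ℕ → Δ}, τ.ker ≤ Subgroup.closure (τ' '' {r | r ∈ ([] : List ℕ)}) → τ.ker = ⊥ :=
      fun h => by simpa using h
    rcases hcases with rfl | rfl | rfl
    · obtain ⟨_, -, hle⟩ := ker_le _ cert3 [] codes3 words3 (fun τ h => ⟨modEv 3 _ τ h⟩)
        (by decide +kernel) chk3 ok3 hτ he
      exact key hle
    · obtain ⟨_, -, hle⟩ := ker_le _ cert5 [] codes5 words5 (fun τ h => ⟨modEv 5 _ τ h⟩)
        (by decide +kernel) chk5 ok5 hτ he
      exact key hle
    · obtain ⟨_, -, hle⟩ := ker_le _ cert7 [] codes7 words7 (fun τ h => ⟨modEv 7 _ τ h⟩)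
        (by decide +kernel) chk7 ok7 hτ he
      exact key hle
  have h4 : ∀ (Δ : Type) [Group Δ] [Finite Δ] (τ : Δ →* SporJ2.P),
      Cfsg.IsStemExtension τ → (∀ x ∈ τ.ker, x ^ 4 = 1) → ∀ x ∈ τ.ker, x ^ 2 = 1 := by
    intro Δ _ _ τ hτ he x hx
    obtain ⟨t, ⟨htk, ht⟩, hle⟩ := ker_le _ cert4 _ codes4 words4
      (fun τ h => ⟨laneEv _ τ h⟩) (by decide +kernel) chk4 ok4 hτ he
    have hb := bound4_ok
    simp only [List.all_eq_true] at hb
    have key : ∀ y ∈ Subgroup.closure (t '' {r | r ∈ bound4.map Prod.fst}),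
        y ∈ τ.ker ∧ y ^ 2 = 1 := by
      intro y hy
      induction hy using Subgroup.closure_induction with
      | mem y hy =>
        obtain ⟨r, hr, rfl⟩ := hy
        obtain ⟨e, he', rfl⟩ := List.mem_map.1 hr
        exact ⟨htk _, ht _ _ _ (hb e he')⟩
      | one => exact ⟨one_mem _, one_pow 2⟩
      | mul a b _ _ ha hb =>
        refine ⟨mul_mem ha.1 hb.1, ?_⟩
        rw [(show Commute a b from (Subgroup.mem_center_iff.mp (hτ.2.1 hb.1) a)).mul_pow, ha.2, hb.2,
          one_mul]
      | inv a _ ha => exact ⟨inv_mem ha.1, by rw [inv_pow, ha.2, inv_one]⟩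
    refine (key x ?_).2
    have he' : bound4.map Prod.fst = [0, 1, 4, 13] := by decide +kernel
    rw [he']
    exact hle hx
  let _ : CommGroup σ.ker :=
    { (inferInstance : Group σ.ker) with
      mul_comm := fun a b => Subtype.ext (Subgroup.mem_center_iff.mp (hσ.2.1 b.2) a) }
  have hexp : ∀ x ∈ σ.ker, x ^ 2 = 1 := by
    intro x hx
    let S2 : Subgroup σ.ker := (powMonoidHom 2 : σ.ker →* σ.ker).range
    have hsurj : Function.Surjective fun y : S2 => y ^ 2 := by
      rintro ⟨_, w, rfl⟩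
      obtain ⟨y, hy, hyw⟩ := exists_pow_eq_of_exponent 4 2 h4 hσ (w : Γ) w.2
      refine ⟨⟨⟨y, hy⟩ ^ 2, ⟨y, hy⟩, rfl⟩, Subtype.ext (Subtype.ext ?_)⟩
      show (y ^ 2) ^ 2 = (w : Γ) ^ 2
      rw [← pow_mul]; exact hyw
    have hinj := Finite.injective_iff_surjective.2 hsurj
    have hS2 : Nat.card S2 = 1 := by
      by_contra hne
      obtain ⟨p, hp, hpd⟩ := Nat.exists_prime_and_dvd hne
      rcases eq_or_ne p 2 with rfl | hp2
      · obtain ⟨z, hz⟩ := exists_prime_orderOf_dvd_card' 2 hpd
        have h := hinj (a₁ := z) (a₂ := 1) (by simp only [one_pow, ← hz, pow_orderOf_eq_one])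
        rw [h, orderOf_one] at hz
        omega
      · exact hodd p hp hp2 (hpd.trans (Subgroup.card_subgroup_dvd_card S2))
    have : (⟨x, hx⟩ : σ.ker) ^ 2 ∈ S2 := ⟨⟨x, hx⟩, rfl⟩
    rw [Subgroup.card_eq_one.1 hS2, Subgroup.mem_bot] at this
    simpa using congrArg Subtype.val this
  obtain ⟨t, ⟨htk, -⟩, hle⟩ := ker_le _ cert2 _ codes2 words2 (fun τ h => ⟨bitEv _ τ h⟩)
    (by decide +kernel) chk2 ok2 hσ hexp
  rw [show {r | r ∈ [13]} = ({13} : Set ℕ) by ext; simp, Set.image_singleton,
    ← Subgroup.zpowers_eq_closure] at hle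
  have heq : σ.ker = Subgroup.zpowers (t 13) :=
    le_antisymm hle (Subgroup.zpowers_le.2 (htk 13))
  rw [heq]
  exact ⟨inferInstance, by rw [Nat.card_zpowers]; exact orderOf_dvd_of_pow_eq_one (hexp _ (htk 13))⟩

theorem multiplier : Cfsg.HasCyclicSchurMultiplier J2 2 := by
  have : Finite J2 := Finite.of_equiv _ equivP.symm.toEquiv
  have hst : Cfsg.IsStemExtension (equivP.symm.toMonoidHom.comp toP) := by
    refine ⟨equivP.symm.surjective.comp toP_surjective, ?_, by rw [commutator_twoJ2]; exact le_top⟩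
    intro x hx
    refine center_twoJ2.ge (MonoidHom.mem_ker.2 (equivP.symm.injective ?_))
    rw [map_one]; exact hx
  refine CfsgLib.Schur.hasCyclicSchurMultiplier_of_bound' hst ?_ fun Γ _ _ σ hσ => ?_
  · have hk : (equivP.symm.toMonoidHom.comp toP).ker = toP.ker := by
      ext x
      simp [MonoidHom.mem_ker]
    rw [hk, card_ker_toP]
  · have hσ' : Cfsg.IsStemExtension (equivP.toMonoidHom.comp σ) := by
      refine ⟨equivP.surjective.comp hσ.1, fun x hx => hσ.2.1 ?_, fun x hx => hσ.2.2 ?_⟩ <;>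
      · refine MonoidHom.mem_ker.2 (equivP.injective ?_)
        rw [map_one]; exact hx
    have hk : (equivP.toMonoidHom.comp σ).ker = σ.ker := by
      ext x
      simp [MonoidHom.mem_ker]
    have h := bound Γ _ hσ'
    rwa [hk] at h

end CfsgLib.KnownA.JankoTwoSchur
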